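import Mathlib

/-!
# Functorial injective hulls of complexes
-/

set_option autoImplicit false
set_option linter.style.haveILetI false

universe v u

open CategoryTheory CategoryTheory.Limits

namespace HullLib

variable {A : Type u} [Category.{v} A] [Abelian A]

attribute [local simp] pushout.inl_desc pushout.inr_desc pushout.inl_desc_assoc pushout.inr_desc_assoc

section

variable {E : A ⥤ A} (e : 𝟭 A ⟶ E) [∀ X, Mono (e.app X)] (M : CochainComplex A ℤ)

/-- The component of `e`, typed without the identity functor. -/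
def ee (X : A) : X ⟶ E.obj X := e.app X

instance (X : A) : Mono (ee e X) := inferInstanceAs (Mono (e.app X))

omit [Abelian A] [∀ X, Mono (e.app X)] in
theorem ee_nat {X Y : A} (f : X ⟶ Y) : f ≫ ee e Y = ee e X ≫ E.map f := e.naturality f

/-- The pushout in degree `n`, where `i` is the previous degree. -/
noncomputable abbrev P (i n : ℤ) : A :=
  pushout (M.d i n ≫ ee e (M.X n)) (ee e (M.X i))

instance mono_inl_P (i n : ℤ) : Mono (pushout.inl (M.d i n ≫ ee e (M.X n)) (ee e (M.X i))) :=
  Abelian.mono_pushout_of_mono_g _ _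

/-- The inclusion in degree `n`. -/
noncomputable def jj (i n : ℤ) : M.X n ⟶ P e M i n :=
  ee e (M.X n) ≫ pushout.inl _ _

instance (i n : ℤ) : Mono (jj e M i n) := mono_comp _ _

/-- The differential. -/
noncomputable def dd (p i n k : ℤ) (h : i = n) : P e M p i ⟶ P e M n k :=
  pushout.desc (eqToHom (by rw [h]) ≫ pushout.inr _ _) 0
    (by
      subst h
      rw [comp_zero, eqToHom_refl, Category.id_comp, Category.assoc, ← pushout.condition]
      simp)

theorem dd_dd (p i n k l m : ℤ) (h : i = n) (h' : k = l) :
    dd e M p i n k h ≫ dd e M n k l m h' = 0 := by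
  subst h h'
  apply pushout.hom_ext
  · simp [dd]
  · simp [dd]

theorem jj_dd (p i n k : ℤ) (h : i = n) :
    jj e M p i ≫ dd e M p i n k h = M.d i k ≫ jj e M n k := by
  subst h
  simp only [jj, dd, Category.assoc, pushout.inl_desc, eqToHom_refl, Category.id_comp]
  rw [← pushout.condition, Category.assoc]

/-- The hull. -/
noncomputable def hull : CochainComplex A ℤ where
  X n := P e M (n - 1) n
  d i j := if h : i + 1 = j then dd e M (i - 1) i (j - 1) j (by omega) else 0
  shape i j h := dif_neg h
  d_comp_d' i j k hij hjk := by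
    simp only [ComplexShape.up_Rel] at hij hjk
    rw [dif_pos hij, dif_pos hjk, dd_dd]

theorem hull_d (i j : ℤ) (h : i + 1 = j) :
    (hull e M).d i j = dd e M (i - 1) i (j - 1) j (by omega) := dif_pos h

/-- The map to the hull. -/
noncomputable def toHull : M ⟶ hull e M where
  f n := jj e M (n - 1) n
  comm' i j h := by
    rw [hull_d e M i j h]
    exact jj_dd e M _ _ _ _ _

variable {M} {N : CochainComplex A ℤ} (φ : M ⟶ N)

/-- Functoriality in a degree. -/
noncomputable def mapP (i n : ℤ) : P e M i n ⟶ P e N i n :=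
  pushout.map _ _ _ _ (E.map (φ.f n)) (E.map (φ.f i)) (φ.f i)
    (by rw [Category.assoc, ← ee_nat, ← φ.comm_assoc])
    (ee_nat e (φ.f i)).symm

theorem jj_mapP (i n : ℤ) : jj e M i n ≫ mapP e φ i n = φ.f n ≫ jj e N i n := by
  simp only [jj, mapP, pushout.map, Category.assoc, pushout.inl_desc]
  rw [← Category.assoc, ← ee_nat, Category.assoc]

theorem dd_mapP (p i n k : ℤ) (h : i = n) :
    dd e M p i n k h ≫ mapP e φ n k = mapP e φ p i ≫ dd e N p i n k h := by
  subst h
  apply pushout.hom_ext <;> simp [dd, mapP, pushout.map]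

/-- Functoriality. -/
noncomputable def mapHull : hull e M ⟶ hull e N where
  f n := mapP e φ (n - 1) n
  comm' i j h := by
    rw [hull_d e M i j h, hull_d e N i j h]
    exact (dd_mapP e φ _ _ _ _ _).symm

variable (M)

/-- The homotopy on the cokernel. -/
noncomputable def kk (p i k : ℤ) : P e M i k ⟶ cokernel (jj e M p i) :=
  pushout.desc 0 (pushout.inl _ _ ≫ cokernel.π _)
    (by
      rw [comp_zero, ← Category.assoc]
      exact (cokernel.condition (jj e M p i)).symm)

theorem jj_kk (p i k : ℤ) : jj e M i k ≫ kk e M p i k = 0 := by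
  simp only [jj, kk, Category.assoc, pushout.inl_desc]
  exact comp_zero

/-- The differential of the cokernel. -/
noncomputable def qd (p i n k : ℤ) (h : i = n) :
    cokernel (jj e M p i) ⟶ cokernel (jj e M n k) :=
  cokernel.desc _ (dd e M p i n k h ≫ cokernel.π _)
    (by rw [← Category.assoc, jj_dd, Category.assoc, cokernel.condition, comp_zero])

/-- The contraction identity. -/
theorem contraction (q p i k : ℤ) :
    dd e M p i i k rfl ≫ kk e M p i k + kk e M q p i ≫ qd e M q p p i rfl =
      cokernel.π (jj e M p i) := by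
  apply pushout.hom_ext <;> simp [dd, kk, qd]

theorem qd_exact (q p p' i i' k : ℤ) (h : p = p') (h' : i = i')
    (w : qd e M q p p' i h ≫ qd e M p' i i' k h' = 0) :
    (ShortComplex.mk (qd e M q p p' i h) (qd e M p' i i' k h') w).Exact := by
  subst h h'
  rw [ShortComplex.exact_iff_exact_up_to_refinements]
  intro T x hx
  let s : cokernel (jj e M p i) ⟶ cokernel (jj e M q p) :=
    cokernel.desc _ (kk e M q p i) (jj_kk e M q p i)
  let t : cokernel (jj e M i k) ⟶ cokernel (jj e M p i) :=
    cokernel.desc _ (kk e M p i k) (jj_kk e M p i k)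
  have hst : qd e M p i i k rfl ≫ t + s ≫ qd e M q p p i rfl = 𝟙 _ := by
    rw [← cancel_epi (cokernel.π (jj e M p i))]
    have h1 : cokernel.π (jj e M p i) ≫ qd e M p i i k rfl ≫ t = dd e M p i i k rfl ≫ kk e M p i k := by
      rw [qd, cokernel.π_desc_assoc, Category.assoc, cokernel.π_desc]
    have h2 : cokernel.π (jj e M p i) ≫ s ≫ qd e M q p p i rfl = kk e M q p i ≫ qd e M q p p i rfl :=
      cokernel.π_desc_assoc _ _ _ _
    rw [Preadditive.comp_add, h1, h2, contraction, Category.comp_id]
  refine ⟨T, 𝟙 T, inferInstance, x ≫ s, ?_⟩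
  have h0 := congrArg (x ≫ ·) hst
  dsimp at hx h0 ⊢
  rw [Preadditive.comp_add, ← Category.assoc, hx, zero_comp, zero_add, Category.comp_id] at h0
  rw [Category.id_comp, Category.assoc, h0]

/-- The cokernel complex. -/
noncomputable def cok : CochainComplex A ℤ where
  X n := cokernel (jj e M (n - 1) n)
  d i j := if h : i + 1 = j then qd e M (i - 1) i (j - 1) j (by omega) else 0
  shape i j h := dif_neg h
  d_comp_d' i j k hij hjk := by
    simp only [ComplexShape.up_Rel] at hij hjk
    rw [dif_pos hij, dif_pos hjk, ← cancel_epi (cokernel.π _), qd, cokernel.π_desc_assoc,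
      qd, Category.assoc, cokernel.π_desc, ← Category.assoc, dd_dd, zero_comp, comp_zero]

theorem cok_d (i j : ℤ) (h : i + 1 = j) :
    (cok e M).d i j = qd e M (i - 1) i (j - 1) j (by omega) := dif_pos h

theorem cok_exactAt (n : ℤ) : (cok e M).ExactAt n := by
  rw [HomologicalComplex.exactAt_iff' _ (n - 1) n (n + 1) (by simp) (by simp)]
  have w := (cok e M).d_comp_d (n - 1) n (n + 1)
  have h1 := cok_d e M (n - 1) n (by omega)
  have h2 := cok_d e M n (n + 1) rfl
  have w' : qd e M (n - 1 - 1) (n - 1) (n - 1) n rfl ≫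
      qd e M (n - 1) n (n + 1 - 1) (n + 1) (by omega) = 0 :=
    (congrArg₂ (· ≫ ·) h1 h2).symm.trans w
  have hex := qd_exact e M (n - 1 - 1) (n - 1) (n - 1) n (n + 1 - 1) (n + 1) rfl (by omega) w'
  refine ShortComplex.exact_of_iso ?_ hex
  exact ShortComplex.isoMk (Iso.refl _) (Iso.refl _) (Iso.refl _)
    ((Category.id_comp _).trans (h1.trans (Category.comp_id _).symm))
    ((Category.id_comp _).trans (h2.trans (Category.comp_id _).symm))

/-- The projection to the cokernel. -/
noncomputable def toCok : hull e M ⟶ cok e M where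
  f n := cokernel.π (jj e M (n - 1) n)
  comm' i j h := by
    rw [hull_d e M i j h, cok_d e M i j h]
    exact cokernel.π_desc _ _ _

theorem quasiIso_toHull : QuasiIso (toHull e M) := by
  have w : toHull e M ≫ toCok e M = 0 := by
    ext n
    exact cokernel.condition _
  let S := ShortComplex.mk (toHull e M) (toCok e M) w
  have hS : S.ShortExact := by
    apply HomologicalComplex.shortExact_of_degreewise_shortExact
    intro n
    exact
      { exact := ShortComplex.exact_of_g_is_cokernel _ (cokernelIsCokernel (jj e M (n - 1) n))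
        mono_f := inferInstanceAs (Mono (jj e M (n - 1) n))
        epi_g := inferInstanceAs (Epi (cokernel.π (jj e M (n - 1) n))) }
  rw [quasiIso_iff]
  intro n
  rw [quasiIsoAt_iff_isIso_homologyMap]
  haveI : Epi (HomologicalComplex.homologyMap (toHull e M) n) :=
    (hS.homology_exact₂ n).epi_f ((cok_exactAt e M n).isZero_homology.eq_of_tgt _ _)
  haveI : Mono (HomologicalComplex.homologyMap (toHull e M) n) :=
    (hS.homology_exact₁ (n - 1) n (by simp)).mono_g
      ((cok_exactAt e M (n - 1)).isZero_homology.eq_of_src _ _)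
  exact isIso_of_mono_of_epi _

/-- The hull functor. -/
noncomputable def hullFunctor : CochainComplex A ℤ ⥤ CochainComplex A ℤ where
  obj M := hull e M
  map φ := mapHull e φ
  map_id M := by
    ext n
    change mapP e (𝟙 M) (n - 1) n = 𝟙 _
    simp [mapP, pushout.map]
  map_comp φ ψ := by
    ext n
    change mapP e (φ ≫ ψ) (n - 1) n = mapP e φ (n - 1) n ≫ mapP e ψ (n - 1) n
    apply pushout.hom_ext <;> simp [mapP, pushout.map]

/-- The natural transformation. -/
noncomputable def hullUnit : 𝟭 _ ⟶ hullFunctor e where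
  app M := toHull e M
  naturality M N φ := by
    ext n
    exact (jj_mapP e φ (n - 1) n).symm

end

section Injective

variable [IsGrothendieckAbelian.{v} A]

open ZeroObject in
theorem exists_functorial_embedding :
    ∃ (E : A ⥤ A) (e : 𝟭 A ⟶ E), ∀ X, Mono (e.app X) ∧ Injective (E.obj X) := by
  let d := MorphismProperty.functorialFactorizationData (MorphismProperty.monomorphisms A)
    (MorphismProperty.monomorphisms A).rlp
  let z : A ⥤ Arrow A :=
    { obj := fun X => Arrow.mk (0 : X ⟶ (0 : A))
      map := fun f => Arrow.homMk f (𝟙 _) (by simp) }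
  let η : 𝟭 A ⟶ z ⋙ d.Z :=
    { app := fun X => d.i.app (z.obj X)
      naturality := fun X Y f => d.i.naturality (z.map f) }
  refine ⟨z ⋙ d.Z, η, fun X => ⟨d.hi _, ?_⟩⟩
  exact inferInstanceAs
    (Injective (IsGrothendieckAbelian.monoMapFactorizationDataRlp (0 : X ⟶ (0 : A))).Z)

end Injective

end HullLib
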